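import Cfsg.Agent.H732.Bit.GLBit

/-!
# Bit-coded elements of `Sp_2m(2)` and of groups with an invariant form (helper732)

* `orderOf_of`, `isConj_pow_of` : orders and conjugacies in a matrix group `φ : Γ →* Matrix`;
* `dot n v w` : the standard scalar product of coded vectors;
* `card_form_le` : bound for the centralizer of an element with a cyclic vector, from an invariant bilinear form;
* `sp a h` : the element of `Sp_2m(2)` with code `a`.
-/

set_option autoImplicit false

namespace Cfsg.Agent.H732.Bit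

open Matrix

variable {n : ℕ} {ι : Type} [Fintype ι] [DecidableEq ι] (e : ι ≃ Fin n)

/-! ### elements of a matrix group -/

section phi

variable {Γ : Type*} [Group Γ] (φ : Γ →* Matrix ι ι (ZMod 2)) (hφ : Function.Injective φ)

include hφ

theorem orderOf_of {g : Γ} {a : List ℕ} (ha : a.length = n) (hg : φ g = M e a) {N : ℕ} (hN : 0 < N) {ms : List ℕ}
    (ho : Ord n a N ms) : orderOf g = N := by
  have h0 : g ^ N = 1 := by
    apply hφ
    rw [map_pow, hg, M_pow e ha, ho.1, M_one, map_one]
  have h1 : orderOf g ∣ N := orderOf_dvd_of_pow_eq_one h0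
  by_contra hne
  have hlt : orderOf g < N := lt_of_le_of_ne (Nat.le_of_dvd hN h1) hne
  obtain ⟨m, hm, hdm⟩ := ho.2.2.2 _ (List.mem_range.2 hlt) h1
  obtain ⟨h2, h3⟩ := ho.2.2.1 m hm
  have h4 : φ (g ^ m) = φ 1 := by rw [orderOf_dvd_iff_pow_eq_one.1 hdm]
  rw [map_pow, hg, M_pow e ha, map_one, ← M_one e] at h4
  exact h3 (M_inj e h2 ho.2.1 h4)

theorem isConj_pow_of {g p : Γ} {a c : List ℕ} (ha : a.length = n) (hc : c.length = n) (hg : φ g = M e a)
    (hp : φ p = M e c) {t : ℕ} (h : mulL c a = mulL (powL n a t) c) : IsConj g (g ^ t) := by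
  refine isConj_iff.2 ⟨p, ?_⟩
  rw [mul_inv_eq_iff_eq_mul]
  apply hφ
  rw [map_mul, map_mul, map_pow, hg, hp, M_pow e ha, M_mul e hc ha, M_mul e (length_powL ha t) hc, h]

theorem isConj_of {g g' p : Γ} {a a' c : List ℕ} (ha : a.length = n) (ha' : a'.length = n) (hc : c.length = n)
    (hg : φ g = M e a) (hg' : φ g' = M e a') (hp : φ p = M e c) (h : mulL c a = mulL a' c) : IsConj g g' := by
  refine isConj_iff.2 ⟨p, ?_⟩
  rw [mul_inv_eq_iff_eq_mul]
  apply hφ
  rw [map_mul, map_mul, hg, hp, hg', M_mul e hc ha, M_mul e ha' hc, h]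

end phi

/-! ### scalar products -/

/-- The shifts of a code. -/
def sh (n w : ℕ) : List ℕ := (List.range n).map (w >>> ·)

/-- The standard scalar product of coded vectors. -/
def dot (n v w : ℕ) : Bool := (app (sh n v) w).testBit 0

omit [DecidableEq ι] in
theorem dot_eq (v w : ℕ) : vec e v ⬝ᵥ vec e w = if dot n v w then 1 else 0 := by
  have h1 : bit (app (sh n v) w) 0 = if dot n v w then 1 else 0 := rfl
  rw [← h1, bit_app, dotProduct]
  have h2 : (sh n v).length = n := by simp [sh]
  rw [h2, ← Fin.sum_univ_eq_sum_range (fun k => bit ((sh n v).getD k 0) 0 * bit w k) n, ← e.sum_comp]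
  refine Finset.sum_congr rfl fun i _ => ?_
  have h3 : (sh n v).getD (e i) 0 = v >>> (e i : ℕ) := by
    rw [List.getD_eq_getElem _ _ (by rw [h2]; exact (e i).2)]
    simp [sh]
  rw [h3]
  show bit v (e i) * bit w (e i) = _
  congr 1

/-- **Bound for a centralizer, with an invariant form** `j`, for an element with a cyclic vector `v`. -/
theorem card_form_le {Γ : Type*} [Group Γ] (φ : Γ →* Matrix ι ι (ZMod 2))
    (hφ : Function.Injective φ) {j : List ℕ} (hj : j.length = n)
    (hJ : ∀ γ : Γ, (φ γ)ᵀ * M e j * φ γ = M e j) {g : Γ} {a : List ℕ} {v : ℕ} {cert : List (List (ℕ × ℕ))}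
    (ha : a.length = n) (hg : φ g = M e a) (hgen : Gen n a [v] cert) (bs : List (List ℕ))
    (hbs : (List.range bs.length).map (fun k => mulL j (powL n a (k + 1))) = bs) :
    Nat.card (Subgroup.centralizer ({g} : Set Γ))
      ≤ ((List.range (2 ^ n)).filter fun w => bs.all fun b => dot n w (app b w) == dot n v (app b v)).length := by
  have h1 := card_centralizer_le e φ hφ ha hg hgen
    (((List.range (2 ^ n)).filter fun w => bs.all fun b => dot n w (app b w) == dot n v (app b v)).map
      fun w => [w]) ?_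
  · rwa [List.length_map] at h1
  · intro γ hγ
    rw [List.map_cons, List.map_nil, List.mem_map]
    refine ⟨_, ?_, rfl⟩
    rw [List.mem_filter]
    refine ⟨List.mem_range.2 (code_lt e _), ?_⟩
    rw [List.all_eq_true]
    intro b hb
    rw [beq_iff_eq]
    obtain ⟨k, hk, hkb⟩ : ∃ k ∈ List.range bs.length, mulL j (powL n a (k + 1)) = b := by
      rw [← hbs] at hb
      exact List.mem_map.1 hb
    have hlb : b.length = n := by rw [← hkb, mulL, List.length_map, length_powL ha]
    have hMb : M e b = M e j * M e a ^ (k + 1) := by rw [M_pow e ha, M_mul e hj (length_powL ha _), hkb]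
    have hcomm : φ γ * M e a ^ (k + 1) = M e a ^ (k + 1) * φ γ := by
      rw [← hg, ← map_pow, ← map_mul, ← map_mul, (hγ.pow_right (k + 1)).eq]
    have h2 : vec e (code e (φ γ *ᵥ vec e v)) ⬝ᵥ vec e (app b (code e (φ γ *ᵥ vec e v)))
        = vec e v ⬝ᵥ vec e (app b v) := by
      rw [← M_mulVec e hlb, ← M_mulVec e hlb, vec_code, Matrix.mulVec_mulVec,
        Matrix.dotProduct_mulVec, Matrix.vecMul_mulVec, ← Matrix.dotProduct_mulVec]
      congr 2
      rw [hMb, Matrix.mul_assoc (M e j), ← hcomm, ← Matrix.mul_assoc, ← Matrix.mul_assoc, hJ]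
    rw [dot_eq, dot_eq] at h2
    cases h3 : dot n (code e (φ γ *ᵥ vec e v)) (app b (code e (φ γ *ᵥ vec e v))) <;>
      cases h4 : dot n v (app b v)
    · rfl
    · rw [h3, h4] at h2
      exact absurd h2 (by decide)
    · rw [h3, h4] at h2
      exact absurd h2 (by decide)
    · rfl

/-! ### the symplectic group -/

/-- `Sp_2m(2)` -/
abbrev Spm (m : ℕ) : Type := symplecticGroup (Fin m) (ZMod 2)

/-- the index set -/
abbrev es (m : ℕ) : Fin m ⊕ Fin m ≃ Fin (m + m) := finSumFinEquiv

/-- the code of `J` -/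
def jL (m : ℕ) : List ℕ := (List.range m).map (fun i => 2 ^ (i + m)) ++ (List.range m).map (2 ^ ·)

theorem length_jL (m : ℕ) : (jL m).length = m + m := by simp [jL]

theorem es_inl (m : ℕ) (i : Fin m) : ((es m (Sum.inl i) : Fin (m + m)) : ℕ) = i := by simp [es]

theorem es_inr (m : ℕ) (i : Fin m) : ((es m (Sum.inr i) : Fin (m + m)) : ℕ) = m + i := by
  simp [es, add_comm]

theorem jL_inl (m : ℕ) (j : Fin m) : (jL m).getD ((es m (Sum.inl j) : Fin (m + m)) : ℕ) 0 = 2 ^ ((j : ℕ) + m) := by
  rw [es_inl, List.getD_eq_getElem _ _ (by rw [length_jL]; have := j.2; omega)]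
  unfold jL
  rw [List.getElem_append_left (by simp)]
  simp

theorem jL_inr (m : ℕ) (j : Fin m) : (jL m).getD ((es m (Sum.inr j) : Fin (m + m)) : ℕ) 0 = 2 ^ (j : ℕ) := by
  rw [es_inr, List.getD_eq_getElem _ _ (by rw [length_jL]; have := j.2; omega)]
  unfold jL
  rw [List.getElem_append_right (by simp)]
  simp

theorem M_jL (m : ℕ) : M (es m) (jL m) = J (Fin m) (ZMod 2) := by
  have h1 : ∀ x : ZMod 2, -x = x := by decide
  ext i j
  rw [M, Matrix.of_apply]
  rcases j with j | j
  · rw [jL_inl]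
    unfold bit
    rw [Nat.testBit_two_pow]
    rcases i with i | i
    · rw [es_inl]
      have h3 : ¬ ((j : ℕ) + m = (i : ℕ)) := by
        have := i.2
        omega
      simp [h3, J]
    · rw [es_inr]
      by_cases h : i = j
      · subst h
        simp [J, add_comm]
      · have h5 : ¬ ((j : ℕ) + m = m + (i : ℕ)) := fun h6 => h (Fin.ext (by omega))
        simp [J, h5, h]
  · rw [jL_inr]
    unfold bit
    rw [Nat.testBit_two_pow]
    rcases i with i | i
    · rw [es_inl]
      by_cases h : i = j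
      · subst h
        simp [J, h1]
      · have h5 : ¬ ((j : ℕ) = (i : ℕ)) := fun h6 => h (Fin.ext h6.symm)
        simp [J, h5, h]
    · rw [es_inr]
      have h3 : ¬ ((j : ℕ) = m + (i : ℕ)) := by
        have := j.2
        omega
      simp [J, h3]

/-- `a` is symplectic: all scalar products of columns are right -/
def Symp (m : ℕ) (a : List ℕ) : Prop := a.length = m + m ∧
  ((List.range (m + m)).all fun i => (List.range (m + m)).all fun k =>
    dot (m + m) (a.getD i 0) (app (jL m) (a.getD k 0)) == ((jL m).getD k 0).testBit i) = true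

instance (m : ℕ) (a : List ℕ) : Decidable (Symp m a) := by
  unfold Symp
  infer_instance

theorem symp_mem {m : ℕ} {a : List ℕ} (h : Symp m a) : M (es m) a ∈ symplecticGroup (Fin m) (ZMod 2) := by
  rw [SymplecticGroup.mem_iff']
  ext i k
  have h1 : ∀ i, (fun l => M (es m) a l i) = vec (es m) (a.getD (es m i) 0) := by
    intro i
    rfl
  have h2 : ((M (es m) a)ᵀ * J (Fin m) (ZMod 2) * M (es m) a) i k
      = (fun l => M (es m) a l i) ⬝ᵥ (J (Fin m) (ZMod 2) *ᵥ fun l => M (es m) a l k) := by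
    rw [Matrix.mul_assoc, Matrix.mul_apply]
    rfl
  rw [h2, h1, h1, ← M_jL, M_mulVec _ (length_jL m), dot_eq]
  have h3 := (List.all_eq_true.1 ((List.all_eq_true.1 h.2) (es m i) (List.mem_range.2 (es m i).2)))
    (es m k) (List.mem_range.2 (es m k).2)
  rw [beq_iff_eq] at h3
  rw [h3]
  rfl

/-- the element of `Sp_2m(2)` with code `a` -/
def sp (m : ℕ) (a : List ℕ) (h : Symp m a) : Spm m := ⟨M (es m) a, symp_mem h⟩

/-- the matrices -/
def cs (m : ℕ) : Spm m →* Matrix (Fin m ⊕ Fin m) (Fin m ⊕ Fin m) (ZMod 2) := Submonoid.subtype _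

theorem cs_inj (m : ℕ) : Function.Injective (cs m) := Subtype.val_injective

theorem cs_J (m : ℕ) (γ : Spm m) : (cs m γ)ᵀ * M (es m) (jL m) * cs m γ = M (es m) (jL m) := by
  rw [M_jL]
  exact SymplecticGroup.mem_iff'.1 γ.2

theorem orderOf_sp {m : ℕ} {a : List ℕ} (h : Symp m a) {N : ℕ} (hN : 0 < N) {ms : List ℕ}
    (ho : Ord (m + m) a N ms) : orderOf (sp m a h) = N :=
  orderOf_of (es m) (cs m) (cs_inj m) h.1 rfl hN ho

theorem isConj_sp_pow {m : ℕ} {a c : List ℕ} (h : Symp m a) (hc : Symp m c) {t : ℕ}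
    (h1 : mulL c a = mulL (powL (m + m) a t) c) : IsConj (sp m a h) (sp m a h ^ t) :=
  isConj_pow_of (es m) (cs m) (cs_inj m) (p := sp m c hc) h.1 hc.1 rfl rfl h1

theorem card_sp_le {m : ℕ} {a : List ℕ} (h : Symp m a) {v : ℕ} {cert : List (List (ℕ × ℕ))}
    (hgen : Gen (m + m) a [v] cert) (bs : List (List ℕ))
    (hbs : (List.range bs.length).map (fun k => mulL (jL m) (powL (m + m) a (k + 1))) = bs) :
    Nat.card (Subgroup.centralizer ({sp m a h} : Set (Spm m)))
      ≤ ((List.range (2 ^ (m + m))).filter fun w =>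
        bs.all fun b => dot (m + m) w (app b w) == dot (m + m) v (app b v)).length :=
  card_form_le (es m) (cs m) (cs_inj m) (length_jL m) (cs_J m) h.1 rfl hgen bs hbs

end Cfsg.Agent.H732.Bit
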